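import Groth.Agent.CAlgH.PropertyP
import Mathlib.LinearAlgebra.TensorProduct.Tower
import Mathlib.LinearAlgebra.Finsupp.LSum
import Mathlib.LinearAlgebra.FreeModule.Basic
import Mathlib.Algebra.Module.Projective
import Mathlib.LinearAlgebra.TensorProduct.RightExactness

/-! Injective maps of projective modules over rings with property P are universally injective. -/

set_option autoImplicit false

universe u

open TensorProduct

namespace Groth.Agent.PropP

variable {R : Type u} [CommRing R]

theorem exists_leftInverse (hP : ∀ I : Ideal R, I.FG → I ≠ ⊤ → I.annihilator ≠ ⊥) {a : ℕ} {M : Type u}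
    [AddCommGroup M] [Module R M] [Module.Finite R M] [Module.Projective R M] (u : (Fin a → R) →ₗ[R] M)
    (hu : Function.Injective u) : ∃ v : M →ₗ[R] (Fin a → R), v ∘ₗ u = LinearMap.id := by
  have := CAlgH.coker_projective_of_free hP a M u hu
  obtain ⟨s, hs⟩ := Module.projective_lifting_property (LinearMap.range u).mkQ LinearMap.id (Submodule.mkQ_surjective _)
  have hmem : ∀ m, m - s ((LinearMap.range u).mkQ m) ∈ LinearMap.range u := fun m => by
    rw [← Submodule.Quotient.mk_eq_zero, ← Submodule.mkQ_apply, map_sub]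
    have := LinearMap.congr_fun hs ((LinearMap.range u).mkQ m)
    simp only [LinearMap.comp_apply, LinearMap.id_apply] at this
    rw [this, sub_self]
  let e := LinearEquiv.ofInjective u hu
  refine ⟨e.symm.toLinearMap ∘ₗ (LinearMap.id - s ∘ₗ (LinearMap.range u).mkQ).codRestrict _ hmem,
    LinearMap.ext fun x => e.injective ?_⟩
  ext1
  have h0 : (LinearMap.range u).mkQ (u x) = 0 := (Submodule.Quotient.mk_eq_zero _).2 ⟨x, rfl⟩
  simp only [LinearMap.comp_apply, LinearEquiv.coe_coe, LinearEquiv.apply_symm_apply,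
    LinearMap.codRestrict_apply, LinearMap.sub_apply, LinearMap.id_apply, h0, map_zero, sub_zero]
  rfl

theorem injective_rTensor_finsupp (hP : ∀ I : Ideal R, I.FG → I ≠ ⊤ → I.annihilator ≠ ⊥)
    {ι l : Type u} (U : (ι →₀ R) →ₗ[R] (l →₀ R)) (hU : Function.Injective U)
    (Q : Type u) [AddCommGroup Q] [Module R Q] : Function.Injective (U.rTensor Q) := by
  classical
  suffices key : ∀ z, U.rTensor Q z = 0 → z = 0 from fun a b hab => sub_eq_zero.1 (key _ (by rw [map_sub, hab, sub_self]))
  intro z hz
  obtain ⟨a, g, hg, w, rfl⟩ : ∃ (a : ℕ) (g : (Fin a → R) →ₗ[R] (ι →₀ R)) (_ : Function.Injective g)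
      (w : (Fin a → R) ⊗[R] Q), g.rTensor Q w = z := by
    obtain ⟨S, hS⟩ : ∃ S : Finset ι, z ∈ LinearMap.range ((Finsupp.supported R R (S : Set ι)).subtype.rTensor Q) := by
      clear hz
      induction z using TensorProduct.induction_on with
      | zero => exact ⟨∅, Submodule.zero_mem _⟩
      | tmul f q => exact ⟨f.support, ⟨⟨f, by rw [Finsupp.mem_supported]⟩ ⊗ₜ q, rfl⟩⟩
      | add x y hx hy =>
        obtain ⟨S, v, rfl⟩ := hx
        obtain ⟨T, w, rfl⟩ := hy
        have hS : Finsupp.supported R R (S : Set ι) ≤ Finsupp.supported R R ((S ∪ T : Finset ι) : Set ι) :=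
          Finsupp.supported_mono (by simp)
        have hT : Finsupp.supported R R (T : Set ι) ≤ Finsupp.supported R R ((S ∪ T : Finset ι) : Set ι) :=
          Finsupp.supported_mono (by simp)
        refine ⟨S ∪ T, (Submodule.inclusion hS).rTensor Q v + (Submodule.inclusion hT).rTensor Q w, ?_⟩
        rw [map_add, ← LinearMap.rTensor_comp_apply, ← LinearMap.rTensor_comp_apply,
          Submodule.subtype_comp_inclusion, Submodule.subtype_comp_inclusion]
    obtain ⟨w, hw⟩ := hS
    let e := (Finsupp.supportedEquivFinsupp (R := R) (M := R) (S : Set ι)).trans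
      ((Finsupp.linearEquivFunOnFinite R R (S : Set ι)).trans
        (LinearEquiv.funCongrLeft R R (Fintype.equivFin (S : Set ι)).symm))
    refine ⟨_, (Finsupp.supported R R (S : Set ι)).subtype ∘ₗ e.symm.toLinearMap,
      (Submodule.subtype_injective _).comp e.symm.injective, e.toLinearMap.rTensor Q w, ?_⟩
    rw [← LinearMap.rTensor_comp_apply, LinearMap.comp_assoc]
    simp [hw]
  let T : Finset l := (Finset.univ : Finset (Fin a)).biUnion fun i => (U (g (Pi.single i 1))).support
  let P : (l →₀ R) →ₗ[R] (T → R) := LinearMap.pi fun t => Finsupp.lapply (t : l)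
  have hsupp : ∀ x, U (g x) ∈ Finsupp.supported R R (T : Set l) := by
    intro x
    rw [pi_eq_sum_univ' x, map_sum, map_sum]
    refine Submodule.sum_mem _ fun i _ => ?_
    rw [map_smul, map_smul]
    refine Submodule.smul_mem _ _ ((Finsupp.mem_supported R _).2 ?_)
    exact Finset.coe_subset.2 (Finset.subset_biUnion_of_mem (fun i => (U (g (Pi.single i 1))).support) (Finset.mem_univ i))
  have hinj : Function.Injective (P ∘ₗ U ∘ₗ g) := by
    refine (injective_iff_map_eq_zero _).2 fun x hx => hg ?_
    rw [map_zero]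
    apply hU
    rw [map_zero]
    ext t
    by_cases ht : t ∈ T
    · exact congrFun hx ⟨t, ht⟩
    · exact Finsupp.notMem_support_iff.1 fun h => ht ((Finsupp.mem_supported R _).1 (hsupp x) h)
  obtain ⟨v, hv⟩ := exists_leftInverse hP _ hinj
  have h1 : (v ∘ₗ P).rTensor Q (U.rTensor Q (g.rTensor Q w)) = w := by
    rw [← LinearMap.rTensor_comp_apply, ← LinearMap.rTensor_comp_apply]
    rw [show ((v ∘ₗ P) ∘ₗ U) ∘ₗ g = LinearMap.id from hv, LinearMap.rTensor_id_apply]
  rw [hz, map_zero] at h1
  rw [← h1, map_zero]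

theorem injective_rTensor (hP : ∀ I : Ideal R, I.FG → I ≠ ⊤ → I.annihilator ≠ ⊥)
    {N M : Type u} [AddCommGroup N] [Module R N] [Module.Projective R N] [AddCommGroup M]
    [Module R M] [Module.Projective R M] (u : N →ₗ[R] M) (hu : Function.Injective u)
    (Q : Type u) [AddCommGroup Q] [Module R Q] : Function.Injective (u.rTensor Q) := by
  obtain ⟨s, hs⟩ := Module.projective_def'.1 (inferInstance : Module.Projective R N)
  obtain ⟨j, hj⟩ := Module.projective_def'.1 (inferInstance : Module.Projective R M)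
  let π : (N →₀ R) →ₗ[R] N := Finsupp.linearCombination R id
  let V : (N →₀ R) →ₗ[R] (M →₀ R) × (N →₀ R) := (j ∘ₗ u ∘ₗ π).prod (LinearMap.id - s ∘ₗ π)
  let U : (N →₀ R) →ₗ[R] (M ⊕ N →₀ R) := (Finsupp.sumFinsuppLEquivProdFinsupp R).symm.toLinearMap ∘ₗ V
  have hU : Function.Injective U := by
    refine (Finsupp.sumFinsuppLEquivProdFinsupp R).symm.injective.comp ((injective_iff_map_eq_zero V).2 fun x hx => ?_)
    have h1 : j (u (π x)) = 0 := congrArg Prod.fst hx
    have h2 : x - s (π x) = 0 := congrArg Prod.snd hx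
    have h3 : u (π x) = 0 := by
      have := congrArg (Finsupp.linearCombination R id) h1
      rwa [map_zero, show Finsupp.linearCombination R id (j (u (π x))) = u (π x) from LinearMap.congr_fun hj _] at this
    have h4 : π x = 0 := hu (by rw [h3, map_zero])
    rwa [h4, map_zero, sub_zero] at h2
  have hfac : U ∘ₗ s = (Finsupp.sumFinsuppLEquivProdFinsupp R).symm.toLinearMap ∘ₗ LinearMap.inl R _ _ ∘ₗ j ∘ₗ u := by
    refine LinearMap.ext fun n => ?_
    show (Finsupp.sumFinsuppLEquivProdFinsupp R).symm (V (s n)) = (Finsupp.sumFinsuppLEquivProdFinsupp R).symm (j (u n), 0)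
    congr 1
    have : π (s n) = n := LinearMap.congr_fun hs n
    simp [V, this]
  suffices key : ∀ x, u.rTensor Q x = 0 → x = 0 from fun a b hab => sub_eq_zero.1 (key _ (by rw [map_sub, hab, sub_self]))
  intro x hx
  have h1 : U.rTensor Q (s.rTensor Q x) = 0 := by
    rw [← LinearMap.rTensor_comp_apply, hfac, LinearMap.rTensor_comp_apply, LinearMap.rTensor_comp_apply,
      LinearMap.rTensor_comp_apply, hx, map_zero, map_zero, map_zero]
  have h2 : s.rTensor Q x = 0 := injective_rTensor_finsupp hP U hU Q (by rw [h1, map_zero])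
  have h3 := congrArg (π.rTensor Q) h2
  rwa [map_zero, ← LinearMap.rTensor_comp_apply, hs, LinearMap.rTensor_id_apply] at h3

end Groth.Agent.PropP
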